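import Mathlib
set_option autoImplicit false
set_option linter.style.haveILetI false
universe u
open TensorProduct

namespace Groth.Agent.H76.NU
/-- (ALG) -/
theorem free_of_isPushout_away {A B S B₁ : Type u} [CommRing A] [CommRing B] [CommRing S] [CommRing B₁]
    [Algebra A B] [Algebra A S] [Algebra S B₁] [Algebra B B₁] [Algebra A B₁]
    [IsScalarTower A B B₁] [IsScalarTower A S B₁] (r : A) [IsLocalization.Away r S]
    [Algebra.IsPushout A S B B₁]
    (h : Module.Free (Localization (Submonoid.powers r)) (LocalizedModule.Away r B)) :
    Module.Free S B₁ := by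
  let e₁ : Localization (Submonoid.powers r) ≃ₐ[A] S :=
    IsLocalization.algEquiv (Submonoid.powers r) (Localization (Submonoid.powers r)) S
  letI : Algebra (Localization (Submonoid.powers r)) S := e₁.toAlgHom.toRingHom.toAlgebra
  haveI : IsScalarTower A (Localization (Submonoid.powers r)) S :=
    IsScalarTower.of_algebraMap_eq' (by
      ext x
      exact (e₁.commutes x).symm)
  have hbc := LocalizedModule.isBaseChange (Submonoid.powers r) B
  haveI : Module.Free (Localization (Submonoid.powers r))
      (Localization (Submonoid.powers r) ⊗[A] B) := Module.Free.of_equiv hbc.equiv.symm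
  have e₃ : S ⊗[Localization (Submonoid.powers r)] (Localization (Submonoid.powers r) ⊗[A] B) ≃ₗ[S]
      S ⊗[A] B :=
    TensorProduct.AlgebraTensorModule.cancelBaseChange A (Localization (Submonoid.powers r)) S S B
  have e₄ : S ⊗[A] B ≃ₗ[S] B₁ :=
    (Algebra.IsPushout.out (R := A) (S := S) (R' := B) (S' := B₁)).equiv
  exact Module.Free.of_equiv (e₃.trans e₄)

end Groth.Agent.H76.NU
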