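import Mathlib
import Groth.Prelude.Def_CGrpSh3
import Groth.Agent.H76.NU.Alg
set_option autoImplicit false
set_option linter.style.haveILetI false
universe u
open CategoryTheory CategoryTheory.Limits AlgebraicGeometry Opposite

namespace Groth.Agent.H76.NU

/-- the affine base change square for a basic open -/
theorem free_aux {X X' : Scheme.{u}} (f : X' ⟶ X) [IsFinite f] [Flat f]
    (T : Over X) [IsAffine T.left] (a : Γ(T.left, ⊤))
    (hfree : letI := (pullback.fst T.hom f).appTop.hom.toAlgebra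
      Module.Free (Localization (Submonoid.powers a)) (LocalizedModule.Away a Γ(pullback T.hom f, ⊤))) :
    letI := (pullback.fst ((T.left.basicOpen a).ι ≫ T.hom) f).appTop.hom.toAlgebra
    Module.Free Γ(((T.left.basicOpen a : T.left.Opens) : Scheme.{u}), ⊤)
      Γ(pullback ((T.left.basicOpen a).ι ≫ T.hom) f, ⊤) := by
  have hUaff : IsAffine ((T.left.basicOpen a : T.left.Opens) : Scheme.{u}) :=
    (isAffineOpen_top T.left).basicOpen a
  let p : pullback T.hom f ⟶ T.left := pullback.fst T.hom f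
  let p₁ : pullback ((T.left.basicOpen a).ι ≫ T.hom) f ⟶ ((T.left.basicOpen a : T.left.Opens) : Scheme.{u}) :=
    pullback.fst ((T.left.basicOpen a).ι ≫ T.hom) f
  let q : pullback ((T.left.basicOpen a).ι ≫ T.hom) f ⟶ pullback T.hom f :=
    pullback.map ((T.left.basicOpen a).ι ≫ T.hom) f T.hom f (T.left.basicOpen a).ι (𝟙 _) (𝟙 _)
      (by simp) (by simp)
  have hq1 : q ≫ p = p₁ ≫ (T.left.basicOpen a).ι := pullback.lift_fst _ _ _
  have hq2 : q ≫ pullback.snd T.hom f = pullback.snd ((T.left.basicOpen a).ι ≫ T.hom) f :=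
    (pullback.lift_snd _ _ _).trans (Category.comp_id _)
  have hsq : IsPullback q p₁ p (T.left.basicOpen a).ι := by
    refine IsPullback.of_right ?_ hq1 (IsPullback.of_hasPullback T.hom f).flip
    rw [hq2]
    exact (IsPullback.of_hasPullback ((T.left.basicOpen a).ι ≫ T.hom) f).flip
  have hpo := isPushout_appTop_of_isPullback hsq.flip
  letI algAB : Algebra Γ(T.left, ⊤) Γ(pullback T.hom f, ⊤) := p.appTop.hom.toAlgebra
  letI algSB₁ : Algebra Γ(((T.left.basicOpen a : T.left.Opens) : Scheme.{u}), ⊤)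
      Γ(pullback ((T.left.basicOpen a).ι ≫ T.hom) f, ⊤) := p₁.appTop.hom.toAlgebra
  letI algBB₁ : Algebra Γ(pullback T.hom f, ⊤) Γ(pullback ((T.left.basicOpen a).ι ≫ T.hom) f, ⊤) :=
    q.appTop.hom.toAlgebra
  letI algAB₁ : Algebra Γ(T.left, ⊤) Γ(pullback ((T.left.basicOpen a).ι ≫ T.hom) f, ⊤) :=
    (p.appTop ≫ q.appTop).hom.toAlgebra
  haveI : IsScalarTower Γ(T.left, ⊤) Γ(pullback T.hom f, ⊤)
      Γ(pullback ((T.left.basicOpen a).ι ≫ T.hom) f, ⊤) := IsScalarTower.of_algebraMap_eq' rfl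
  haveI : IsScalarTower Γ(T.left, ⊤) Γ(((T.left.basicOpen a : T.left.Opens) : Scheme.{u}), ⊤)
      Γ(pullback ((T.left.basicOpen a).ι ≫ T.hom) f, ⊤) :=
    IsScalarTower.of_algebraMap_eq' (congrArg CommRingCat.Hom.hom hpo.w).symm
  haveI : Algebra.IsPushout Γ(T.left, ⊤) Γ(((T.left.basicOpen a : T.left.Opens) : Scheme.{u}), ⊤)
      Γ(pullback T.hom f, ⊤) Γ(pullback ((T.left.basicOpen a).ι ≫ T.hom) f, ⊤) :=
    CommRingCat.isPushout_iff_isPushout.mp hpo
  exact free_of_isPushout_away a hfree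

/-- (FREE) -/
theorem exists_basicOpen_free {X X' : Scheme.{u}} (f : X' ⟶ X) [IsFinite f] [Flat f]
    [IsNoetherian X] (T : Over X) [IsAffine T.left] (t : T.left) :
    ∃ (a : Γ(T.left, ⊤)) (_ : t ∈ T.left.basicOpen a)
      (alg : Algebra Γ((Over.mk ((T.left.basicOpen a).ι ≫ T.hom)).left, ⊤)
        Γ(((Over.pullback f).obj (Over.mk ((T.left.basicOpen a).ι ≫ T.hom))).left, ⊤)),
      Module.Finite Γ((Over.mk ((T.left.basicOpen a).ι ≫ T.hom)).left, ⊤)
        Γ(((Over.pullback f).obj (Over.mk ((T.left.basicOpen a).ι ≫ T.hom))).left, ⊤) ∧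
      Module.Free Γ((Over.mk ((T.left.basicOpen a).ι ≫ T.hom)).left, ⊤)
        Γ(((Over.pullback f).obj (Over.mk ((T.left.basicOpen a).ι ≫ T.hom))).left, ⊤) ∧
      ∀ x : Γ((Over.mk ((T.left.basicOpen a).ι ≫ T.hom)).left, ⊤),
        algebraMap Γ((Over.mk ((T.left.basicOpen a).ι ≫ T.hom)).left, ⊤)
          Γ(((Over.pullback f).obj (Over.mk ((T.left.basicOpen a).ι ≫ T.hom))).left, ⊤) x =
        (pullback.fst (Over.mk ((T.left.basicOpen a).ι ≫ T.hom)).hom f).appTop x := by
  haveI : LocallyOfFiniteType f := inferInstance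
  haveI : LocallyOfFinitePresentation f := inferInstance
  let p : pullback T.hom f ⟶ T.left := pullback.fst T.hom f
  haveI : IsFinite p := inferInstance
  haveI : Flat p := inferInstance
  haveI : LocallyOfFinitePresentation p := inferInstance
  haveI : IsAffine (pullback T.hom f) := isAffine_of_isAffineHom p
  letI algAB : Algebra Γ(T.left, ⊤) Γ(pullback T.hom f, ⊤) := p.appTop.hom.toAlgebra
  haveI hfin : Module.Finite Γ(T.left, ⊤) Γ(pullback T.hom f, ⊤) := p.finite_appTop
  haveI hflat : Module.Flat Γ(T.left, ⊤) Γ(pullback T.hom f, ⊤) := p.flat_appTop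
  haveI hfp : Algebra.FinitePresentation Γ(T.left, ⊤) Γ(pullback T.hom f, ⊤) :=
    p.finitePresentation_appTop
  haveI : Module.FinitePresentation Γ(T.left, ⊤) Γ(pullback T.hom f, ⊤) :=
    Module.FinitePresentation.of_finite_of_finitePresentation _ _
  have hU := isAffineOpen_top T.left
  let x : PrimeSpectrum Γ(T.left, ⊤) := hU.primeIdealOf ⟨t, trivial⟩
  haveI : Module.Free (Localization.AtPrime x.asIdeal)
      (LocalizedModule x.asIdeal.primeCompl Γ(pullback T.hom f, ⊤)) :=
    Module.free_of_flat_of_isLocalRing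
  obtain ⟨a, ha, hfree, -⟩ := Module.FinitePresentation.exists_free_localizedModule_powers
    x.asIdeal.primeCompl (LocalizedModule.mkLinearMap x.asIdeal.primeCompl Γ(pullback T.hom f, ⊤))
    (Localization.AtPrime x.asIdeal)
  have hta : t ∈ T.left.basicOpen a := by
    have h1 : hU.fromSpec x = t := hU.fromSpec_primeIdealOf ⟨t, trivial⟩
    have h2 : x ∈ hU.fromSpec ⁻¹ᵁ (T.left.basicOpen a) := by
      rw [hU.fromSpec_preimage_basicOpen]
      exact ha
    rw [← h1]
    exact h2
  have hUaff : IsAffine ((T.left.basicOpen a : T.left.Opens) : Scheme.{u}) :=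
    (isAffineOpen_top T.left).basicOpen a
  refine ⟨a, hta,
    (pullback.fst (Over.mk ((T.left.basicOpen a).ι ≫ T.hom)).hom f).appTop.hom.toAlgebra,
    ?_, ?_, fun _ => rfl⟩
  · exact (pullback.fst ((T.left.basicOpen a).ι ≫ T.hom) f).finite_appTop
  · exact free_aux f T a hfree

end Groth.Agent.H76.NU
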